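import Mathlib
import Cfsg.Agent.Lib.Helper55.OOG.Defs

/-!
# Project OOG (S2413), package [LEVI]: the Levi embedding `SL_m → O_{2m+1}`,
`g ↦ diag(1, g, g⁻ᵀ)`.
-/

set_option autoImplicit false
open scoped Matrix

namespace Cfsg.Agent.Lib.Helper49.OOG

open Cfsg.Agent.Lib.Helper55.OOG

universe u

variable {m : ℕ} {F : Type u} [Field F]

theorem leviMat_mul' (g h : Matrix (Fin m) (Fin m) F) :
    leviMat (g * h) = leviMat g * leviMat h := by
  unfold leviMat
  rw [Matrix.fromBlocks_multiply, Matrix.fromBlocks_multiply, Matrix.mul_inv_rev,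
    Matrix.transpose_mul]
  simp

theorem leviMat_one' : leviMat (1 : Matrix (Fin m) (Fin m) F) = 1 := by
  unfold leviMat
  simp [Matrix.fromBlocks_one]

theorem leviMat_mulVec' (g : Matrix (Fin m) (Fin m) F) (v : Vec m F) :
    leviMat g *ᵥ v = Sum.elim (fun _ => v (Sum.inl ()))
      (Sum.elim (g *ᵥ fun i => v (Sum.inr (Sum.inl i)))
        ((g⁻¹)ᵀ *ᵥ fun i => v (Sum.inr (Sum.inr i)))) := by
  unfold leviMat
  rw [Matrix.fromBlocks_mulVec]
  funext k
  rcases k with k | k
  · simp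
  · simp only [Sum.elim_inr, Matrix.zero_mulVec, zero_add]
    rw [Matrix.fromBlocks_mulVec]
    rcases k with k | k
    · simp [Function.comp_def]
    · simp [Function.comp_def]

theorem leviMat_isom (g : Matrix (Fin m) (Fin m) F) (hg : IsUnit g.det) (v : Vec m F) :
    QF m F (leviMat g *ᵥ v) = QF m F v := by
  rw [leviMat_mulVec']
  unfold QF Cfsg.quadFormOdd
  simp only [Sum.elim_inl, Sum.elim_inr]
  congr 1
  have h1 : ∑ i : Fin m, (g *ᵥ fun i => v (Sum.inr (Sum.inl i))) i *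
      ((g⁻¹)ᵀ *ᵥ fun i => v (Sum.inr (Sum.inr i))) i =
      (g *ᵥ fun i => v (Sum.inr (Sum.inl i))) ⬝ᵥ
        ((g⁻¹)ᵀ *ᵥ fun i => v (Sum.inr (Sum.inr i))) := rfl
  have h2 : ∑ i : Fin m, v (Sum.inr (Sum.inl i)) * v (Sum.inr (Sum.inr i)) =
      (fun i => v (Sum.inr (Sum.inl i))) ⬝ᵥ (fun i => v (Sum.inr (Sum.inr i))) := rfl
  rw [h1, h2, Matrix.mulVec_transpose, dotProduct_comm, Matrix.dotProduct_mulVec,
    Matrix.vecMul_vecMul, Matrix.nonsing_inv_mul g hg, Matrix.vecMul_one, dotProduct_comm]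

/-- The unit of `GL` with matrix `leviMat g`, `g ∈ SL`. -/
noncomputable def leviUnit (g : Matrix.SpecialLinearGroup (Fin m) F) :
    Matrix.GeneralLinearGroup (Unit ⊕ (Fin m ⊕ Fin m)) F where
  val := leviMat (g : Matrix (Fin m) (Fin m) F)
  inv := leviMat ((g⁻¹ : Matrix.SpecialLinearGroup (Fin m) F) : Matrix (Fin m) (Fin m) F)
  val_inv := by
    rw [← leviMat_mul', ← Matrix.SpecialLinearGroup.coe_mul, mul_inv_cancel,
      Matrix.SpecialLinearGroup.coe_one, leviMat_one']
  inv_val := by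
    rw [← leviMat_mul', ← Matrix.SpecialLinearGroup.coe_mul, inv_mul_cancel,
      Matrix.SpecialLinearGroup.coe_one, leviMat_one']

theorem leviUnit_mem (g : Matrix.SpecialLinearGroup (Fin m) F) : leviUnit g ∈ Iso m F := by
  intro u _
  have hg : IsUnit (g : Matrix (Fin m) (Fin m) F).det := by
    rw [g.det_coe]; exact isUnit_one
  exact leviMat_isom (g : Matrix (Fin m) (Fin m) F) hg u

/-- The Levi embedding. -/
noncomputable def leviHom (m : ℕ) (F : Type u) [Field F] :
    Matrix.SpecialLinearGroup (Fin m) F →* ↥(Iso m F) where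
  toFun g := ⟨leviUnit g, leviUnit_mem g⟩
  map_one' := by
    apply Subtype.ext
    apply Units.ext
    show leviMat ((1 : Matrix.SpecialLinearGroup (Fin m) F) : Matrix (Fin m) (Fin m) F) = 1
    rw [Matrix.SpecialLinearGroup.coe_one, leviMat_one']
  map_mul' g h := by
    apply Subtype.ext
    apply Units.ext
    show leviMat ((g * h : Matrix.SpecialLinearGroup (Fin m) F) : Matrix (Fin m) (Fin m) F) =
      leviMat (g : Matrix (Fin m) (Fin m) F) * leviMat (h : Matrix (Fin m) (Fin m) F)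
    rw [Matrix.SpecialLinearGroup.coe_mul, leviMat_mul']

theorem isLevi_leviHom (m : ℕ) (F : Type u) [Field F] : IsLevi (leviHom m F) := by
  intro g
  rfl

/-- Package [LEVI]. -/
theorem pkgLevi : Cfsg.Agent.Lib.Helper55.OOG.PkgLevi.{u} := by
  intro m F _
  exact ⟨leviHom m F, isLevi_leviHom m F⟩

end Cfsg.Agent.Lib.Helper49.OOG
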