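import Mathlib
import Cfsg.Agent.Lib.Helper55.OOG.Defs
import Cfsg.Agent.Lib.Helper49.OOG.Levi

/-!
# Project OOG (S2413), package [XL]: the Levi image of a transvection is the long root
element `ρ_{f_j, c e_i}`.
-/

set_option autoImplicit false
open scoped Matrix

namespace Cfsg.Agent.Lib.Helper49.OOG

open Cfsg.Agent.Lib.Helper55.OOG

universe u

variable {m : ℕ} {F : Type u} [Field F]

theorem transv_inv' {i j : Fin m} (hij : i ≠ j) (c : F) :
    ((1 : Matrix (Fin m) (Fin m) F) + Matrix.single i j c)⁻¹ = 1 + Matrix.single i j (-c) := by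
  apply Matrix.inv_eq_right_inv
  have h := Matrix.transvection_mul_transvection_same i j hij c (-c)
  simp only [Matrix.transvection] at h
  rw [h]
  simp

theorem transv_mulVec' (i j : Fin m) (c : F) (x : Fin m → F) (k : Fin m) :
    (((1 : Matrix (Fin m) (Fin m) F) + Matrix.single i j c) *ᵥ x) k =
      x k + if k = i then c * x j else 0 := by
  rw [Matrix.add_mulVec, Matrix.one_mulVec, Pi.add_apply]
  congr 1
  by_cases hk : k = i
  · subst hk
    simp [Matrix.mulVec, dotProduct, Matrix.single_apply]
  · simp [Matrix.mulVec, dotProduct, Matrix.single_apply, hk, Ne.symm hk]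

theorem transvT_mulVec' (i j : Fin m) (c : F) (y : Fin m → F) (k : Fin m) :
    (((1 : Matrix (Fin m) (Fin m) F) + Matrix.single i j c)ᵀ *ᵥ y) k =
      y k + if k = j then c * y i else 0 := by
  rw [Matrix.transpose_add, Matrix.transpose_one, Matrix.add_mulVec, Matrix.one_mulVec,
    Pi.add_apply]
  congr 1
  by_cases hk : k = j
  · subst hk
    simp [Matrix.mulVec, dotProduct, Matrix.single_apply, Matrix.transpose_apply]
  · simp [Matrix.mulVec, dotProduct, Matrix.single_apply, Matrix.transpose_apply, hk,
      Ne.symm hk]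

/-- Package [XL]. -/
theorem pkgXL : Cfsg.Agent.Lib.Helper55.OOG.PkgXL.{u} := by
  intro m F _ L hL i j hij c v
  rw [hL, Matrix.SpecialLinearGroup.transvection_coe, leviMat_mulVec', transv_inv' hij]
  rw [B_Fv, B_smul_right, B_E, Q_smul, Q_E]
  funext k
  rcases k with k | k | k
  · simp
  · simp only [Sum.elim_inr, Sum.elim_inl]
    rw [transv_mulVec']
    by_cases hk : k = i
    · subst hk
      simp [hij]
      ring
    · simp [hk, Ne.symm hk]
  · simp only [Sum.elim_inr]
    rw [transvT_mulVec']
    by_cases hk : k = j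
    · subst hk
      simp [hij, Ne.symm hij]
      ring
    · simp [hk, Ne.symm hk]

end Cfsg.Agent.Lib.Helper49.OOG
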